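import Cfsg.Agent.Lib.Frobenius.Basic

/-!
Constructing Frobenius complements from fixed-point-free representations (owner: helper77).

Main results (namespace `Cfsg.Agent.FCConstruct`):
* `exists_of_fpf` : a fixed-point-free action by automorphisms gives a Frobenius complement, with
  the cardinality of the kernel
* `exists_of_units` : the same from a homomorphism into units of a ring acting on a finite module
* `exists_of_normZero` : from an integral matrix representation killed by all norm elements
* `exists_normZero_of_divisionRing` / `exists_of_divisionRing` : finite subgroups of division rings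
-/

set_option autoImplicit false

namespace Cfsg.Agent.FCConstruct

open scoped Pointwise

universe u v w

/-- The complement statement, with kernel size. -/
def IsFCWith (A : Type u) [Group A] (m : ℕ) : Prop :=
  ∃ (L : Type) (_ : Group L) (_ : Finite L) (H : Subgroup L),
    Cfsg.IsFrobeniusComplement H ∧ Nonempty (A ≃* H) ∧ Nat.card (Cfsg.frobeniusKernel H) = m

theorem exists_small (A : Type u) [Group A] [Finite A] :
    ∃ (A' : Type) (_ : Group A') (_ : Finite A'), Nonempty (A' ≃* A) := by
  obtain ⟨n, ⟨e⟩⟩ := Finite.exists_equiv_fin A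
  exact ⟨Fin n, e.symm.group, inferInstance, ⟨@Equiv.mulEquiv _ _ e.symm _⟩⟩

theorem exists_of_fpf_small {A K : Type} [Group A] [Finite A] [Nontrivial A] [Group K] [Finite K]
    [Nontrivial K] (φ : A →* MulAut K) (hfpf : ∀ a : A, a ≠ 1 → ∀ k : K, φ a k = k → k = 1) :
    IsFCWith A (Nat.card K) := by
  have : Finite (K ⋊[φ] A) := Finite.of_equiv _ SemidirectProduct.equivProd.symm
  set N := (SemidirectProduct.inl : K →* K ⋊[φ] A).range with hN
  set H := (SemidirectProduct.inr : A →* K ⋊[φ] A).range with hH
  have hNn : N.Normal := by rw [hN, SemidirectProduct.range_inl_eq_ker_rightHom]; infer_instance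
  have hd : Disjoint N H := by
    rw [disjoint_iff, Subgroup.eq_bot_iff_forall]
    rintro x ⟨⟨k, rfl⟩, ⟨a, ha⟩⟩
    have h1 := congrArg SemidirectProduct.right ha
    simp at h1
    rw [h1, map_one] at ha
    exact ha.symm
  have hcN : Nat.card N = Nat.card K :=
    (Nat.card_congr (MonoidHom.ofInjective SemidirectProduct.inl_injective).toEquiv).symm
  have hcH : Nat.card H = Nat.card A :=
    (Nat.card_congr (MonoidHom.ofInjective SemidirectProduct.inr_injective).toEquiv).symm
  have hc : Subgroup.IsComplement' N H :=
    Subgroup.isComplement'_of_card_mul_and_disjoint (by rw [hcN, hcH, SemidirectProduct.card]) hd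
  have hN0 : N ≠ ⊥ := fun h => by
    rw [h, Subgroup.card_bot] at hcN
    have := Finite.one_lt_card (α := K); omega
  have hH0 : H ≠ ⊥ := fun h => by
    rw [h, Subgroup.card_bot] at hcH
    have := Finite.one_lt_card (α := A); omega
  have hF : Frobenius.FPF H N := by
    rintro _ ⟨a, rfl⟩ ha1 _ ⟨k, rfl⟩ e
    have h1 := congrArg SemidirectProduct.left e
    simp at h1
    rw [hfpf a (fun h => ha1 (by rw [h, map_one])) k h1, map_one]
  have hFC := hF.isFrobeniusComplement hc hN0 hH0
  refine ⟨K ⋊[φ] A, inferInstance, inferInstance, H, hFC,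
    ⟨MonoidHom.ofInjective SemidirectProduct.inr_injective⟩, ?_⟩
  rw [← Frobenius.kernel_eq_of_normal_complement hFC hc]
  exact hcN

theorem exists_of_fpf {A : Type u} {K : Type v} [Group A] [Finite A] [Nontrivial A] [Group K] [Finite K]
    [Nontrivial K] (φ : A →* MulAut K) (hfpf : ∀ a : A, a ≠ 1 → ∀ k : K, φ a k = k → k = 1) :
    IsFCWith A (Nat.card K) := by
  obtain ⟨A', _, _, ⟨eA⟩⟩ := exists_small A
  obtain ⟨K', _, _, ⟨eK⟩⟩ := exists_small K
  have : Nontrivial A' := eA.toEquiv.nontrivial
  have : Nontrivial K' := eK.toEquiv.nontrivial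
  let φ' : A' →* MulAut K' :=
    { toFun := fun a => (eK.trans (φ (eA a))).trans eK.symm
      map_one' := by ext k; simp
      map_mul' := fun a b => by ext k; simp }
  obtain ⟨L, g, f, H, hH, ⟨e⟩, hk⟩ := exists_of_fpf_small φ' (fun a ha k hk => by
    have h := hfpf (eA a) (fun h => ha (eA.injective (by rw [h, map_one]))) (eK k) (by
      have := congrArg eK hk
      simpa [φ'] using this)
    exact eK.injective (by rw [h, map_one]))
  exact ⟨L, g, f, H, hH, ⟨eA.symm.trans e⟩, by rw [hk, Nat.card_congr eK.toEquiv]⟩

theorem exists_of_units {A : Type u} [Group A] [Finite A] [Nontrivial A] {R : Type v} [Ring R] {M : Type w}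
    [AddCommGroup M] [Module R M] [Finite M] [Nontrivial M] (f : A →* R)
    (hfpf : ∀ a : A, a ≠ 1 → ∀ m : M, f a • m = m → m = 0) : IsFCWith A (Nat.card M) := by
  let φ : A →* MulAut (Multiplicative M) :=
    { toFun := fun a =>
        { toFun := fun m => Multiplicative.ofAdd (f a • m.toAdd)
          invFun := fun m => Multiplicative.ofAdd (f a⁻¹ • m.toAdd)
          left_inv := fun m => by simp [← mul_smul, ← map_mul]
          right_inv := fun m => by simp [← mul_smul, ← map_mul]
          map_mul' := fun m n => by simp [smul_add] }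
      map_one' := by ext m; simp
      map_mul' := fun a b => by ext m; simp [mul_smul] }
  have h := exists_of_fpf φ (fun a ha m hm => by
    have := hfpf a ha m.toAdd (congrArg Multiplicative.toAdd hm)
    exact Multiplicative.toAdd.injective this)
  rwa [Nat.card_congr (Multiplicative.toAdd (α := M))] at h

theorem IsFCWith.exists_iso {A : Type u} [Group A] {m : ℕ} (h : IsFCWith A m) :
    ∃ (L : Type) (_ : Group L) (_ : Finite L) (H : Subgroup L),
      Cfsg.IsFrobeniusComplement H ∧ Nonempty (A ≃* H) := by
  obtain ⟨L, g, f, H, hH, e, -⟩ := h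
  exact ⟨L, g, f, H, hH, e⟩

theorem IsFCWith.exists_iso_symm {A : Type u} [Group A] {m : ℕ} (h : IsFCWith A m) :
    ∃ (L : Type) (_ : Group L) (_ : Finite L) (H : Subgroup L),
      Cfsg.IsFrobeniusComplement H ∧ Nonempty (H ≃* A) := by
  obtain ⟨L, g, f, H, hH, ⟨e⟩, -⟩ := h
  exact ⟨L, g, f, H, hH, ⟨e.symm⟩⟩

/-- In a ring, a norm-zero element with a fixed vector kills it after multiplication by the order. -/
theorem smul_eq_zero_of_fixed {R : Type v} [Ring R] {M : Type w} [AddCommGroup M] [Module R M] (x : R) (n : ℕ)
    (hsum : ∑ i ∈ Finset.range n, x ^ i = 0) {m : M} (hm : x • m = m) : n • m = 0 := by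
  have hp : ∀ i : ℕ, x ^ i • m = m := by
    intro i
    induction i with
    | zero => simp
    | succ i ih => rw [pow_succ, mul_smul, hm, ih]
  have h : (∑ i ∈ Finset.range n, x ^ i) • m = 0 := by rw [hsum, zero_smul]
  rw [Finset.sum_smul, Finset.sum_congr rfl (fun i _ => hp i), Finset.sum_const, Finset.card_range] at h
  exact h

/-- An integral representation of dimension `k > 0` in which the norm of each nontrivial element
vanishes. -/
def HasNormZero (A : Type u) [Group A] : Prop :=
  ∃ (k : ℕ) (ρ : A →* Matrix (Fin k) (Fin k) ℤ), 0 < k ∧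
    ∀ a : A, a ≠ 1 → ∑ i ∈ Finset.range (orderOf a), ρ a ^ i = 0

theorem exists_of_normZero {A : Type u} [Group A] [Finite A] [Nontrivial A] (h : HasNormZero A) :
    ∃ m : ℕ, IsFCWith A m := by
  obtain ⟨k, ρ, hk, hN⟩ := h
  obtain ⟨l, hl, hlp⟩ := Nat.exists_infinite_primes (Nat.card A + 1)
  have := Fact.mk hlp
  have : Nonempty (Fin k) := ⟨⟨0, hk⟩⟩
  let red := (Int.castRingHom (ZMod l)).mapMatrix (m := Fin k)
  let f : A →* Module.End (ZMod l) (Fin k → ZMod l) :=
    ((Matrix.toLinAlgEquiv' (R := ZMod l) (n := Fin k)).toRingEquiv.toRingHom.comp red).toMonoidHom.comp ρ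
  refine ⟨_, exists_of_units (M := Fin k → ZMod l) f (fun a ha m hm => ?_)⟩
  have hsum : ∑ i ∈ Finset.range (orderOf a), f a ^ i = 0 := by
    have := congrArg ((Matrix.toLinAlgEquiv' (R := ZMod l) (n := Fin k)).toRingEquiv.toRingHom.comp red) (hN a ha)
    rw [map_sum, map_zero] at this
    simp only [map_pow] at this
    exact this
  have h0 := smul_eq_zero_of_fixed (f a) _ hsum hm
  have hne : (orderOf a : ZMod l) ≠ 0 := by
    rw [Ne, ZMod.natCast_eq_zero_iff]
    intro hd
    have := Nat.le_of_dvd Nat.card_pos (hd.trans (orderOf_dvd_natCard a))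
    omega
  funext i
  have h1 := congrFun h0 i
  simp only [Pi.smul_apply, nsmul_eq_mul, Pi.zero_apply] at h1
  exact (mul_eq_zero.mp h1).resolve_left hne

theorem exists_normZero_of_divisionRing {D : Type v} [DivisionRing D] [CharZero D] (H : Subgroup Dˣ) [Finite H] :
    HasNormZero H := by
  classical
  let S : Submodule ℤ D := Submodule.span ℤ (Set.range fun h : H => ((h : Dˣ) : D))
  have hstab : ∀ (h : H), ∀ s ∈ S, ((h : Dˣ) : D) * s ∈ S := by
    intro h s hs
    induction hs using Submodule.span_induction with
    | mem x hx =>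
      obtain ⟨g, rfl⟩ := hx
      exact Submodule.subset_span ⟨h * g, by simp⟩
    | zero => simp
    | add x y _ _ hx hy => rw [mul_add]; exact S.add_mem hx hy
    | smul c x _ hx => rw [mul_smul_comm]; exact S.smul_mem c hx
  have : Module.Finite ℤ S := Module.Finite.span_of_finite ℤ (Set.finite_range _)
  have : Module.Free ℤ S := Module.free_of_finite_type_torsion_free'
  let b := Module.finBasis ℤ S
  let act : H →* Module.End ℤ S :=
    { toFun := fun h => ((LinearMap.mulLeft ℤ ((h : Dˣ) : D)).restrict (hstab h))
      map_one' := by ext s; simp [LinearMap.restrict_apply]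
      map_mul' := fun g h => LinearMap.ext fun s => Subtype.ext (mul_assoc _ _ _) }
  have hone : (1 : D) ∈ S := Submodule.subset_span ⟨1, by simp⟩
  have hpos : 0 < Module.finrank ℤ S := by
    have : Nontrivial S := ⟨⟨⟨1, hone⟩, 0, fun h => one_ne_zero (congrArg Subtype.val h)⟩⟩
    exact Module.finrank_pos
  refine ⟨_, ((LinearMap.toMatrixAlgEquiv b).toRingEquiv.toRingHom.toMonoidHom).comp act, hpos, fun a ha => ?_⟩
  have hsum : ∑ i ∈ Finset.range (orderOf a), act a ^ i = 0 := by
    ext s
    have hval : ∀ i : ℕ, ((act a ^ i) s : D) = ((a : Dˣ) : D) ^ i * (s : D) := by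
      intro i
      induction i with
      | zero => simp
      | succ i ih =>
        rw [pow_succ', Module.End.mul_apply]
        show ((a : Dˣ) : D) * ((act a ^ i) s : D) = _
        rw [ih, pow_succ', mul_assoc]
    rw [LinearMap.sum_apply, LinearMap.zero_apply, Submodule.coe_sum, Submodule.coe_zero]
    simp only [hval, ← Finset.sum_mul]
    have hne : ((a : Dˣ) : D) - 1 ≠ 0 := fun h =>
      ha (Subtype.ext (Units.ext (sub_eq_zero.mp h)))
    have hpow : ((a : Dˣ) : D) ^ orderOf a = 1 := by
      rw [← Units.val_pow_eq_pow_val, ← Subgroup.coe_pow, pow_orderOf_eq_one]; rfl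
    have h := geom_sum_mul ((a : Dˣ) : D) (orderOf a)
    rw [hpow, sub_self, mul_eq_zero] at h
    rw [h.resolve_right hne, zero_mul]
  have := congrArg (LinearMap.toMatrixAlgEquiv b) hsum
  rw [map_sum, map_zero] at this
  simp only [map_pow] at this
  exact this

theorem exists_of_divisionRing {D : Type v} [DivisionRing D] (H : Subgroup Dˣ) [Finite H] [Nontrivial H] :
    ∃ m : ℕ, IsFCWith H m := by
  classical
  obtain ⟨p, hp⟩ := CharP.exists D
  rcases (CharP.char_is_prime_or_zero D p) with hpp | rfl
  · have := Fact.mk hpp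
    let _ : Algebra (ZMod p) D := ZMod.algebra D p
    let S : Submodule (ZMod p) D := Submodule.span (ZMod p) (Set.range fun h : H => ((h : Dˣ) : D))
    have hstab : ∀ (h : H), ∀ s ∈ S, ((h : Dˣ) : D) * s ∈ S := by
      intro h s hs
      induction hs using Submodule.span_induction with
      | mem x hx =>
        obtain ⟨g, rfl⟩ := hx
        exact Submodule.subset_span ⟨h * g, by simp⟩
      | zero => simp
      | add x y _ _ hx hy => rw [mul_add]; exact S.add_mem hx hy
      | smul c x _ hx => rw [mul_smul_comm]; exact S.smul_mem c hx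
    have : Module.Finite (ZMod p) S := Module.Finite.span_of_finite (ZMod p) (Set.finite_range _)
    have : Finite S := Module.finite_of_finite (ZMod p)
    have : Nontrivial S := ⟨⟨⟨1, Submodule.subset_span ⟨1, by simp⟩⟩, 0,
      fun h => one_ne_zero (congrArg Subtype.val h)⟩⟩
    let act : H →* Module.End (ZMod p) S :=
      { toFun := fun h => ((LinearMap.mulLeft (ZMod p) ((h : Dˣ) : D)).restrict (hstab h))
        map_one' := by ext s; simp [LinearMap.restrict_apply]
        map_mul' := fun g h => LinearMap.ext fun s => Subtype.ext (mul_assoc _ _ _) }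
    refine ⟨_, exists_of_units (M := S) act (fun a ha m hm => ?_)⟩
    have h : (((a : Dˣ) : D) - 1) * (m : D) = 0 := by
      rw [sub_mul, one_mul, sub_eq_zero]
      exact congrArg Subtype.val hm
    rcases mul_eq_zero.mp h with h | h
    · exact absurd (Subtype.ext (Units.ext (sub_eq_zero.mp h))) ha
    · exact Subtype.ext h
  · have := CharP.charP_to_charZero D
    exact exists_of_normZero (exists_normZero_of_divisionRing H)

end Cfsg.Agent.FCConstruct
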