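import Cfsg.Agent.Lib.FCConstruct.Basic

/-!
Lifting fixed-point-free modules to characteristic zero (owner: helper77).

Main results (namespace `Cfsg.Agent.FCConstruct`):
* `hasNormZero_of_fpf` : a fixed-point-free representation in characteristic `p ∤ |A|` gives an
  integral representation in which all norms of nontrivial elements vanish
-/

set_option autoImplicit false

namespace Cfsg.Agent.FCConstruct

open MonoidAlgebra

universe u v

variable {A : Type u} [Group A]

/-- the norm of the cyclic group generated by `c` -/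
noncomputable def nrm (R : Type*) [CommRing R] (c : A) : MonoidAlgebra R A :=
  ∑ i ∈ Finset.range (orderOf c), MonoidAlgebra.of R A c ^ i

/-- the two-sided ideal generated by the norms of nontrivial elements, as a submodule -/
noncomputable def Idl (R : Type*) [CommRing R] (A : Type u) [Group A] : Submodule R (MonoidAlgebra R A) :=
  Submodule.span R {z | ∃ a c b : A, c ≠ 1 ∧ z = MonoidAlgebra.of R A a * nrm R c * MonoidAlgebra.of R A b}

theorem map_of {R S : Type*} [CommRing R] [CommRing S] (f : R →+* S) (a : A) :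
    mapRingHom A f (MonoidAlgebra.of R A a) = MonoidAlgebra.of S A a := by
  simp [coe_mapRingHom]

theorem map_nrm {R S : Type*} [CommRing R] [CommRing S] (f : R →+* S) (c : A) :
    mapRingHom A f (nrm R c) = nrm S c := by
  simp only [nrm, map_sum, map_pow, map_of]

theorem map_smul_ring {R S : Type*} [CommRing R] [CommRing S] (f : R →+* S) (r : R) (x : MonoidAlgebra R A) :
    mapRingHom A f (r • x) = f r • mapRingHom A f x := by
  ext m
  simp

theorem map_Idl {R S : Type*} [CommRing R] [CommRing S] (f : R →+* S) {x : MonoidAlgebra R A}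
    (hx : x ∈ Idl R A) : mapRingHom A f x ∈ Idl S A := by
  induction hx using Submodule.span_induction with
  | mem z hz =>
    obtain ⟨a, c, b, hc, rfl⟩ := hz
    exact Submodule.subset_span ⟨a, c, b, hc, by rw [map_mul, map_mul, map_of, map_of, map_nrm]⟩
  | zero => simp
  | add y z _ _ hy hz => rw [map_add]; exact add_mem hy hz
  | smul r y _ hy => rw [map_smul_ring]; exact Submodule.smul_mem _ _ hy

theorem nrm_mul_mem {R : Type*} [CommRing R] {c : A} (hc : c ≠ 1) (x y : MonoidAlgebra R A) :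
    x * nrm R c * y ∈ Idl R A := by
  induction x using MonoidAlgebra.induction_on with
  | of a =>
    induction y using MonoidAlgebra.induction_on with
    | of b => exact Submodule.subset_span ⟨a, c, b, hc, rfl⟩
    | add y z hy hz => rw [mul_add]; exact add_mem hy hz
    | smul r y hy => rw [mul_smul_comm]; exact Submodule.smul_mem _ _ hy
  | add x z hx hz => rw [add_mul, add_mul]; exact add_mem hx hz
  | smul r x hx => rw [smul_mul_assoc, smul_mul_assoc]; exact Submodule.smul_mem _ _ hx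

theorem of_mul_nrm {R : Type*} [CommRing R] (c : A) :
    MonoidAlgebra.of R A c * nrm R c = nrm R c := by
  have h := mul_geom_sum (MonoidAlgebra.of R A c) (orderOf c)
  rw [← map_pow, pow_orderOf_eq_one, map_one, sub_self] at h
  rw [← sub_eq_zero]
  simpa [nrm, sub_mul] using h

theorem nrm_mul_nrm {R : Type*} [CommRing R] (c : A) :
    nrm R c * nrm R c = (orderOf c : R) • nrm R c := by
  have h : ∀ i : ℕ, MonoidAlgebra.of R A c ^ i * nrm R c = nrm R c := by
    intro i
    induction i with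
    | zero => simp
    | succ i ih => rw [pow_succ, mul_assoc, of_mul_nrm, ih]
  conv_lhs => arg 1; unfold nrm
  rw [Finset.sum_mul, Finset.sum_congr rfl (fun i _ => h i), Finset.sum_const, Finset.card_range,
    Nat.cast_smul_eq_nsmul]

variable [Finite A]

theorem not_pow_mem_Idl {p : ℕ} [Fact p.Prime] (hpA : ¬ p ∣ Nat.card A) {M : Type v} [AddCommGroup M]
    [Module (ZMod p) M] [Nontrivial M] (f : A →* Module.End (ZMod p) M)
    (hfpf : ∀ a : A, a ≠ 1 → ∀ m : M, f a m = m → m = 0) (k : ℕ) :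
    ((p ^ k : ℕ) : MonoidAlgebra (ZMod (p ^ (k + 1))) A) ∉ Idl (ZMod (p ^ (k + 1))) A := by
  have hp : p.Prime := Fact.out
  have : NeZero (Nat.card A : ZMod p) := ⟨by rwa [Ne, ZMod.natCast_eq_zero_iff]⟩
  set φ := MonoidAlgebra.lift (ZMod p) (Module.End (ZMod p) M) A f
  have hφn : ∀ c : A, c ≠ 1 → φ (nrm (ZMod p) c) = 0 := by
    intro c hc
    refine LinearMap.ext fun m => hfpf c hc _ ?_
    have h : φ (MonoidAlgebra.of (ZMod p) A c) = f c := MonoidAlgebra.lift_of _ _
    show f c (φ (nrm (ZMod p) c) m) = φ (nrm (ZMod p) c) m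
    rw [← h, ← Module.End.mul_apply, ← map_mul, of_mul_nrm]
  let Ib : Submodule (MonoidAlgebra (ZMod p) A) (MonoidAlgebra (ZMod p) A) :=
    Submodule.span _ {z | ∃ c b : A, c ≠ 1 ∧ z = nrm (ZMod p) c * MonoidAlgebra.of (ZMod p) A b}
  have hright : ∀ x ∈ Ib, ∀ y, x * y ∈ Ib := by
    intro x hx y
    induction hx using Submodule.span_induction with
    | mem z hz =>
      obtain ⟨c, b, hc, rfl⟩ := hz
      induction y using MonoidAlgebra.induction_on with
      | of b' => exact Submodule.subset_span ⟨c, b * b', hc, by rw [map_mul, mul_assoc]⟩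
      | add y z hy hz => rw [mul_add]; exact add_mem hy hz
      | smul r y hy => rw [mul_smul_comm, Algebra.smul_def]; exact Submodule.smul_mem _ _ hy
    | zero => simp
    | add a b _ _ ha hb => rw [add_mul]; exact add_mem ha hb
    | smul r a _ ha => rw [smul_eq_mul, mul_assoc]; exact Submodule.smul_mem _ r ha
  have hφI : ∀ x ∈ Ib, φ x = 0 := by
    intro x hx
    induction hx using Submodule.span_induction with
    | mem z hz => obtain ⟨c, b, hc, rfl⟩ := hz; rw [map_mul, hφn c hc, zero_mul]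
    | zero => simp
    | add a b _ _ ha hb => rw [map_add, ha, hb, add_zero]
    | smul r a _ ha => rw [smul_eq_mul, map_mul, ha, mul_zero]
  obtain ⟨C, hC⟩ := MonoidAlgebra.Submodule.exists_isCompl Ib
  obtain ⟨i, hi, e, he, hie⟩ := Submodule.mem_sup.mp (hC.sup_eq_top.ge (Submodule.mem_top (x := 1)))
  have hφe : φ e = 1 := by
    have := congrArg φ hie
    rw [map_add, hφI i hi, zero_add, map_one] at this
    exact this
  have hne : ∀ c b : A, c ≠ 1 → nrm (ZMod p) c * MonoidAlgebra.of (ZMod p) A b * e = 0 := by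
    intro c b hc
    have h1 := hright _ (Submodule.subset_span ⟨c, b, hc, rfl⟩) e
    have h2 : nrm (ZMod p) c * MonoidAlgebra.of (ZMod p) A b * e ∈ C :=
      C.smul_mem (nrm (ZMod p) c * MonoidAlgebra.of (ZMod p) A b) he
    exact (Submodule.disjoint_def.mp hC.disjoint) _ h1 h2
  set red : MonoidAlgebra (ZMod (p ^ (k + 1))) A →+* MonoidAlgebra (ZMod p) A :=
    mapRingHom A (ZMod.castHom (dvd_pow_self p k.succ_ne_zero) (ZMod p))
  have : NeZero (p ^ (k + 1)) := ⟨pow_ne_zero _ hp.ne_zero⟩
  have hdiv : ∀ x, red x = 0 → ∃ y, x = (p : ZMod (p ^ (k + 1))) • y := by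
    intro x hx
    refine ⟨MonoidAlgebra.ofCoeff (Finsupp.mapRange (fun r => ((r.val / p : ℕ) : ZMod (p ^ (k + 1)))) (by simp) x.coeff), ?_⟩
    ext m
    have hm := congrArg (fun z : MonoidAlgebra (ZMod p) A => z.coeff m) hx
    simp only [red, coeff_mapRingHom, coeff_zero, Finsupp.zero_apply] at hm
    rw [ZMod.castHom_apply, ZMod.cast_eq_val, ZMod.natCast_eq_zero_iff] at hm
    simp only [coeff_smul, Finsupp.smul_apply, coeff_ofCoeff, Finsupp.mapRange_apply, smul_eq_mul]
    rw [← Nat.cast_mul, Nat.mul_div_cancel' hm, ZMod.natCast_zmod_val]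
  have hsurj : ∃ e', red e' = e := by
    refine ⟨MonoidAlgebra.ofCoeff (Finsupp.mapRange (fun r => ((r.val : ℕ) : ZMod (p ^ (k + 1)))) (by simp) e.coeff), ?_⟩
    ext m
    simp [red]
  obtain ⟨e', he'⟩ := hsurj
  intro hmem
  set X := Idl (ZMod (p ^ (k + 1))) A
  have hstep : ∀ x ∈ X, ∃ x' ∈ X, x * e' = (p : ZMod (p ^ (k + 1))) • x' := by
    intro x hx
    induction hx using Submodule.span_induction with
    | mem z hz =>
      obtain ⟨a, c, b, hc, rfl⟩ := hz
      obtain ⟨r, hr⟩ := hdiv (nrm _ c * MonoidAlgebra.of _ A b * e') (by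
        rw [map_mul, map_mul, map_nrm, map_of, he']; exact hne c b hc)
      have hu : IsUnit (orderOf c : ZMod (p ^ (k + 1))) := by
        rw [ZMod.isUnit_iff_coprime]
        exact ((hp.coprime_iff_not_dvd.mpr fun h => hpA (h.trans (orderOf_dvd_natCard c))).pow_left _).symm
      obtain ⟨w, hw⟩ := hu.exists_left_inv
      refine ⟨w • (MonoidAlgebra.of _ A a * nrm _ c * r), Submodule.smul_mem _ _ (nrm_mul_mem hc _ _), ?_⟩
      have h2 : MonoidAlgebra.of (ZMod (p ^ (k + 1))) A a * nrm _ c * MonoidAlgebra.of _ A b * e'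
          = w • (MonoidAlgebra.of _ A a * (nrm _ c * nrm _ c) * MonoidAlgebra.of _ A b * e') := by
        rw [nrm_mul_nrm, mul_smul_comm, smul_mul_assoc, smul_mul_assoc, smul_smul, hw, one_smul]
      rw [h2, smul_comm]
      congr 1
      simp only [mul_assoc] at hr ⊢
      rw [hr, mul_smul_comm, mul_smul_comm]
    | zero => exact ⟨0, zero_mem _, by simp⟩
    | add y z _ _ hy hz =>
      obtain ⟨y', hy', ey⟩ := hy
      obtain ⟨z', hz', ez⟩ := hz
      exact ⟨y' + z', add_mem hy' hz', by rw [add_mul, ey, ez, smul_add]⟩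
    | smul r y _ hy =>
      obtain ⟨y', hy', ey⟩ := hy
      exact ⟨r • y', Submodule.smul_mem _ _ hy', by rw [smul_mul_assoc, ey, smul_comm]⟩
  have hiter : ∀ j : ℕ, ∀ x ∈ X, ∃ x' ∈ X, x * e' ^ j = ((p : ZMod (p ^ (k + 1))) ^ j) • x' := by
    intro j
    induction j with
    | zero => exact fun x hx => ⟨x, hx, by simp⟩
    | succ j ih =>
      intro x hx
      obtain ⟨x', hx', ex⟩ := ih x hx
      obtain ⟨y, hy, ey⟩ := hstep x' hx'
      exact ⟨y, hy, by
        rw [pow_succ e', ← mul_assoc, ex, smul_mul_assoc, ey, smul_smul, pow_succ (p : ZMod (p ^ (k + 1))) j]⟩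
  obtain ⟨x', -, hx'⟩ := hiter (k + 1) _ hmem
  have hp0 : (p : ZMod (p ^ (k + 1))) ^ (k + 1) = 0 := by rw [← Nat.cast_pow, ZMod.natCast_self]
  rw [hp0, zero_smul] at hx'
  have hred : red (e' ^ (k + 1)) = 0 := by
    ext m
    have hm := congrArg (fun z : MonoidAlgebra (ZMod (p ^ (k + 1))) A => z.coeff m) hx'
    set r := (e' ^ (k + 1)).coeff m with hr
    have hm' : ((p ^ k : ℕ) : ZMod (p ^ (k + 1))) * r = 0 := by
      rw [← nsmul_eq_mul] at hx'
      have hm2 := congrArg (fun z : MonoidAlgebra (ZMod (p ^ (k + 1))) A => z.coeff m) hx'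
      simp only [coeff_smul, Finsupp.smul_apply, coeff_zero, Finsupp.zero_apply] at hm2
      rw [← nsmul_eq_mul]
      exact hm2
    have hd0 : p ^ (k + 1) ∣ p ^ k * r.val := by
      rw [← ZMod.natCast_eq_zero_iff, Nat.cast_mul, ZMod.natCast_zmod_val]; exact hm'
    have hdv : p ∣ r.val := Nat.dvd_of_mul_dvd_mul_left (pow_pos hp.pos k) ((pow_succ p k).symm.dvd.trans hd0)
    rw [show red = mapRingHom A _ from rfl, coeff_mapRingHom, ← hr, ZMod.castHom_apply, ZMod.cast_eq_val,
      coeff_zero, Finsupp.zero_apply, ZMod.natCast_eq_zero_iff]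
    exact hdv
  have h1 := congrArg φ hred
  rw [map_pow, he', map_pow, hφe, one_pow, map_zero] at h1
  obtain ⟨m, hm⟩ := exists_ne (0 : M)
  exact hm (by simpa using LinearMap.congr_fun h1 m)

theorem Idl_rat_ne_top {p : ℕ} [Fact p.Prime] (hpA : ¬ p ∣ Nat.card A) {M : Type v} [AddCommGroup M]
    [Module (ZMod p) M] [Nontrivial M] (f : A →* Module.End (ZMod p) M)
    (hfpf : ∀ a : A, a ≠ 1 → ∀ m : M, f a m = m → m = 0) : (1 : MonoidAlgebra ℚ A) ∉ Idl ℚ A := by
  intro h1
  have key : ∀ x ∈ Idl ℚ A, ∃ D : ℤ, D ≠ 0 ∧ ∃ y ∈ Idl ℤ A,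
      mapRingHom A (Int.castRingHom ℚ) y = (D : ℚ) • x := by
    intro x hx
    induction hx using Submodule.span_induction with
    | mem z hz =>
      obtain ⟨a, c, b, hc, rfl⟩ := hz
      exact ⟨1, one_ne_zero, _, Submodule.subset_span ⟨a, c, b, hc, rfl⟩, by simp [map_of, map_nrm]⟩
    | zero => exact ⟨1, one_ne_zero, 0, zero_mem _, by simp⟩
    | add x y _ _ hx hy =>
      obtain ⟨D, hD, u, hu, eu⟩ := hx
      obtain ⟨E, hE, v, hv, ev⟩ := hy
      refine ⟨D * E, mul_ne_zero hD hE, E • u + D • v, add_mem (Submodule.smul_mem _ _ hu) (Submodule.smul_mem _ _ hv), ?_⟩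
      rw [map_add, map_smul_ring, map_smul_ring, eu, ev, smul_smul, smul_smul, smul_add]
      simp [mul_comm]
    | smul q x _ hx =>
      obtain ⟨D, hD, u, hu, eu⟩ := hx
      refine ⟨D * q.den, mul_ne_zero hD (by exact_mod_cast q.den_ne_zero), q.num • u, Submodule.smul_mem _ _ hu, ?_⟩
      rw [map_smul_ring, eu, smul_smul, smul_smul]
      congr 1
      show (q.num : ℚ) * (D : ℚ) = _
      push_cast
      rw [← Rat.mul_den_eq_num q]
      ring
  obtain ⟨D, hD, y, hy, ey⟩ := key 1 h1
  have hp : p.Prime := Fact.out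
  have hyD : y = (D : MonoidAlgebra ℤ A) := by
    ext m
    have hm := congrArg (fun z : MonoidAlgebra ℚ A => z.coeff m) ey
    rw [← zsmul_one (D : ℤ)]
    simp only [coeff_mapRingHom, coeff_smul, Finsupp.smul_apply, smul_eq_mul, Int.coe_castRingHom] at hm ⊢
    rw [MonoidAlgebra.one_def, coeff_single] at hm
    rw [MonoidAlgebra.one_def, coeff_single]
    classical
    rw [Finsupp.single_apply] at hm ⊢
    split_ifs at hm ⊢ <;> simp at hm ⊢ <;> exact_mod_cast hm
  obtain ⟨k, m, hm, hkm⟩ := Nat.exists_eq_pow_mul_and_not_dvd (Int.natAbs_ne_zero.mpr hD) p hp.ne_one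
  apply not_pow_mem_Idl hpA f hfpf k
  set n := p ^ (k + 1) with hn
  have hmem := map_Idl (Int.castRingHom (ZMod n)) hy
  rw [hyD, map_intCast] at hmem
  have hmem2 : ((D.natAbs : ℕ) : MonoidAlgebra (ZMod n) A) ∈ Idl (ZMod n) A := by
    rcases Int.natAbs_eq D with h | h <;> rw [h] at hmem
    · simpa using hmem
    · simpa using Submodule.neg_mem _ hmem
  have hu : IsUnit (m : ZMod n) := by
    rw [ZMod.isUnit_iff_coprime, hn]
    exact ((hp.coprime_iff_not_dvd.mpr hm).pow_left _).symm
  obtain ⟨w, hw⟩ := hu.exists_left_inv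
  have h3 := Submodule.smul_mem _ w hmem2
  have e : w • ((D.natAbs : ℕ) : MonoidAlgebra (ZMod n) A) = ((p ^ k : ℕ) : MonoidAlgebra (ZMod n) A) := by
    rw [hkm, Nat.cast_mul, ← (Nat.cast_commute m _).eq, ← smul_mul_assoc]
    have : w • (m : MonoidAlgebra (ZMod n) A) = 1 := by
      rw [← map_natCast (algebraMap (ZMod n) (MonoidAlgebra (ZMod n) A)), Algebra.smul_def, ← map_mul, hw, map_one]
    rw [this, one_mul]
  rwa [e] at h3

/-- A fixed-point-free representation in coprime characteristic lifts to an integral one. -/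
theorem hasNormZero_of_fpf {p : ℕ} [Fact p.Prime] (hpA : ¬ p ∣ Nat.card A) {M : Type v} [AddCommGroup M]
    [Module (ZMod p) M] [Nontrivial M] (f : A →* Module.End (ZMod p) M)
    (hfpf : ∀ a : A, a ≠ 1 → ∀ m : M, f a m = m → m = 0) : HasNormZero A := by
  classical
  set J := Idl ℚ A
  let q := J.mkQ
  let S : Submodule ℤ (MonoidAlgebra ℚ A ⧸ J) :=
    Submodule.span ℤ (Set.range fun a : A => q (MonoidAlgebra.of ℚ A a))
  have hJ : ∀ a : A, ∀ x ∈ J, MonoidAlgebra.of ℚ A a * x ∈ J := by
    intro a x hx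
    induction hx using Submodule.span_induction with
    | mem z hz =>
      obtain ⟨a', c, b, hc, rfl⟩ := hz
      exact Submodule.subset_span ⟨a * a', c, b, hc, by rw [map_mul, mul_assoc, mul_assoc, mul_assoc]⟩
    | zero => simp
    | add y z _ _ hy hz => rw [mul_add]; exact add_mem hy hz
    | smul r y _ hy => rw [mul_smul_comm]; exact Submodule.smul_mem _ _ hy
  let L : A → (MonoidAlgebra ℚ A ⧸ J) →ₗ[ℚ] (MonoidAlgebra ℚ A ⧸ J) := fun a =>
    J.mapQ J (LinearMap.mulLeft ℚ (MonoidAlgebra.of ℚ A a)) (fun x hx => hJ a x hx)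
  have hL : ∀ (a : A) (x : MonoidAlgebra ℚ A), L a (q x) = q (MonoidAlgebra.of ℚ A a * x) := fun _ _ => rfl
  have hstab : ∀ a : A, ∀ s ∈ S, (L a).restrictScalars ℤ s ∈ S := by
    intro a s hs
    induction hs using Submodule.span_induction with
    | mem x hx =>
      obtain ⟨b, rfl⟩ := hx
      exact Submodule.subset_span ⟨a * b, by
        show q _ = L a (q (MonoidAlgebra.of ℚ A b))
        rw [hL, (MonoidAlgebra.of ℚ A).map_mul]⟩
    | zero => simp
    | add x y _ _ hx hy => rw [map_add]; exact S.add_mem hx hy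
    | smul c x _ hx => rw [map_smul]; exact S.smul_mem c hx
  have : Module.Finite ℤ S := Module.Finite.span_of_finite ℤ (Set.finite_range _)
  have : IsAddTorsionFree (MonoidAlgebra ℚ A ⧸ J) := IsAddTorsionFree.of_module_rat _
  have : IsAddTorsionFree S := Subtype.val_injective.isAddTorsionFree (S.subtype.toAddMonoidHom)
  have : Module.Free ℤ S := Module.free_of_finite_type_torsion_free'
  let b := Module.finBasis ℤ S
  let act : A →* Module.End ℤ S :=
    { toFun := fun a => ((L a).restrictScalars ℤ).restrict (hstab a)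
      map_one' := LinearMap.ext fun s => Subtype.ext (by
        obtain ⟨x, hx⟩ := Submodule.mkQ_surjective J (s : MonoidAlgebra ℚ A ⧸ J)
        show L 1 (s : MonoidAlgebra ℚ A ⧸ J) = (s : MonoidAlgebra ℚ A ⧸ J)
        rw [← hx, hL, (MonoidAlgebra.of ℚ A).map_one, one_mul])
      map_mul' := fun g h => LinearMap.ext fun s => Subtype.ext (by
        obtain ⟨x, hx⟩ := Submodule.mkQ_surjective J (s : MonoidAlgebra ℚ A ⧸ J)
        show L (g * h) (s : MonoidAlgebra ℚ A ⧸ J) = L g (L h (s : MonoidAlgebra ℚ A ⧸ J))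
        rw [← hx, hL, hL, hL, (MonoidAlgebra.of ℚ A).map_mul, mul_assoc]) }
  have hpos : 0 < Module.finrank ℤ S := by
    have : Nontrivial S := ⟨⟨⟨q 1, Submodule.subset_span ⟨1, by simp [MonoidAlgebra.one_def]⟩⟩, 0, fun h =>
      Idl_rat_ne_top hpA f hfpf ((Submodule.Quotient.mk_eq_zero J).mp (congrArg Subtype.val h))⟩⟩
    exact Module.finrank_pos
  refine ⟨_, ((LinearMap.toMatrixAlgEquiv b).toRingEquiv.toRingHom.toMonoidHom).comp act, hpos, fun a ha => ?_⟩
  have hsum : ∑ i ∈ Finset.range (orderOf a), act a ^ i = 0 := by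
    ext s
    obtain ⟨x, hx⟩ := Submodule.mkQ_surjective J (s : MonoidAlgebra ℚ A ⧸ J)
    have hval : ∀ i : ℕ, ((act a ^ i) s : MonoidAlgebra ℚ A ⧸ J) = q (MonoidAlgebra.of ℚ A a ^ i * x) := by
      intro i
      induction i with
      | zero => rw [pow_zero, pow_zero, one_mul, Module.End.one_apply]; exact hx.symm
      | succ i ih =>
        rw [pow_succ', Module.End.mul_apply]
        show L a ((act a ^ i) s : MonoidAlgebra ℚ A ⧸ J) = _
        rw [ih, hL, pow_succ', mul_assoc]
    rw [LinearMap.sum_apply, LinearMap.zero_apply, Submodule.coe_sum, Submodule.coe_zero]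
    simp only [hval, ← map_sum, ← Finset.sum_mul]
    refine (Submodule.Quotient.mk_eq_zero J).mpr ?_
    have := nrm_mul_mem (R := ℚ) ha 1 x
    rwa [one_mul] at this
  have := congrArg (LinearMap.toMatrixAlgEquiv b) hsum
  rw [map_sum, map_zero] at this
  simp only [map_pow] at this
  exact this

end Cfsg.Agent.FCConstruct
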